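import Cfsg.Agent.InvolCalc.ZStarApps
import Cfsg.Agent.Coprime.Action
import Cfsg.Prelude.Def_Transfer
import Cfsg.Prelude.Def_Local

/-!
Odd cores of subgroups, factorisations `C(x) = O(C(x)) N_{C(x)}(W)` and weakly closed central
elementary abelian `2`-subgroups.
-/

set_option autoImplicit false
set_option linter.unusedSectionVars false

namespace Cfsg.Lib.CosetCore

open Subgroup Cfsg.Lib.Coprime

universe u

variable {G : Type u} [Group G] [Finite G]

/-- `O(K)` as a subgroup of `G`. -/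
def coreIn (K : Subgroup G) : Subgroup G := (Cfsg.pPrimeCore 2 ↥K).map K.subtype

/-- `O(C(x))`. -/
abbrev cor (x : G) : Subgroup G := coreIn (centralizer ({x} : Set G))

theorem coreIn_le (K : Subgroup G) : coreIn K ≤ K := map_subtype_le _

theorem odd_coreIn (K : Subgroup G) : Odd (Nat.card (coreIn K)) :=
  Nat.Coprime.odd_of_right
    ((Cfsg.Lib.Components.coprime_card_pPrimeCore (G := ↥K) 2).coprime_dvd_left (card_map_dvd _ _))

theorem le_normalizer_coreIn_self (K : Subgroup G) : K ≤ normalizer (coreIn K : Set G) := by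
  conv_lhs => rw [← range_subtype K, MonoidHom.range_eq_map]
  exact le_trans (Subgroup.map_mono (normalizer_eq_top _).ge) (le_normalizer_map _)

/-- a normalised subgroup of odd order lies in the odd core -/
theorem le_coreIn {K M : Subgroup G} (hMK : M ≤ K) (hn : K ≤ normalizer (M : Set G))
    (hodd : Odd (Nat.card M)) : M ≤ coreIn K := by
  have h1 : M.subgroupOf K ≤ Cfsg.pPrimeCore 2 ↥K := le_sSup
    ⟨normal_subgroupOf_of_le_normalizer hn,
      by rw [Nat.card_congr (subgroupOfEquivOfLe hMK).toEquiv]; exact Nat.coprime_two_right.2 hodd⟩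
  have h2 := Subgroup.map_mono (f := K.subtype) h1
  rwa [map_subgroupOf_eq_of_le hMK] at h2

theorem mem_normalizer_iff_map {K : Subgroup G} {g : G} :
    g ∈ normalizer (K : Set G) ↔ K.map (MulAut.conj g).toMonoidHom = K :=
  (Cfsg.Lib.Coprime.conjMap_eq_self_iff).symm

theorem conj_mem_of_normalizer {K : Subgroup G} {g x : G} (hg : g ∈ normalizer (K : Set G))
    (hx : x ∈ K) : g * x * g⁻¹ ∈ K := (mem_normalizer_iff.1 hg x).1 hx

/-- whatever normalises `K` normalises `O(K)` -/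
theorem normalizer_le_coreIn (K : Subgroup G) :
    normalizer (K : Set G) ≤ normalizer (coreIn K : Set G) := by
  intro g hg
  set M := (coreIn K).map (MulAut.conj g).toMonoidHom with hM
  have hgK := mem_normalizer_iff_map.1 hg
  have hle : M ≤ coreIn K := by
    refine le_coreIn ((Subgroup.map_mono (coreIn_le K)).trans hgK.le) ?_ ?_
    · refine hgK.ge.trans ((Subgroup.map_mono (le_normalizer_coreIn_self K)).trans ?_)
      exact le_normalizer_map _
    · rw [hM, card_map_of_injective (MulAut.conj g).injective]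
      exact odd_coreIn K
  exact mem_normalizer_iff_map.2
    (eq_of_le_of_card_ge hle (card_map_of_injective (MulAut.conj g).injective).ge)

theorem coreIn_le_pPrimeCore {K : Subgroup G} [K.Normal] : coreIn K ≤ Cfsg.pPrimeCore 2 G :=
  le_sSup ⟨by
    rw [← normalizer_eq_top_iff]
    exact top_le_iff.1 ((normalizer_eq_top (H := K)).ge.trans (normalizer_le_coreIn K)),
    Nat.coprime_two_right.2 (odd_coreIn K)⟩

theorem odd_of_le {H K : Subgroup G} (h : H ≤ K) (hK : Odd (Nat.card K)) : Odd (Nat.card H) :=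
  hK.of_dvd_nat (card_dvd_of_le h)

theorem odd_sup {M N : Subgroup G} (hN : N ≤ normalizer (M : Set G)) (hM : Odd (Nat.card M))
    (hN' : Odd (Nat.card N)) : Odd (Nat.card ↥(M ⊔ N)) := by
  haveI : (M.subgroupOf (M ⊔ N)).Normal :=
    normal_subgroupOf_of_le_normalizer (sup_le le_normalizer hN)
  have h1 : M.relIndex (M ⊔ N) ∣ Nat.card N := by
    have : M.relIndex (M ⊔ N) = M.relIndex N := by
      rw [← relIndex_subgroupOf (K := M ⊔ N) (L := M ⊔ N) le_rfl,
        ← relIndex_subgroupOf (H := M) (K := N) (L := M ⊔ N) le_sup_right, subgroupOf_self,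
        ← relIndex_sup_left (K := M.subgroupOf (M ⊔ N)) (H := N.subgroupOf (M ⊔ N)),
        ← subgroupOf_sup le_sup_left le_sup_right, subgroupOf_self]
    rw [this]
    exact relIndex_dvd_card M N
  rw [← Subgroup.card_mul_index (M.subgroupOf (M ⊔ N)),
    Nat.card_congr (subgroupOfEquivOfLe (le_sup_left : M ≤ M ⊔ N)).toEquiv]
  exact hM.mul (hN'.of_dvd_nat h1)

/-- two involutions whose product has odd order are conjugate by an element of the cyclic group -/
theorem conj_of_odd {x y : G} (hx : x * x = 1) (hy : y * y = 1) (ho : Odd (orderOf (x * y))) :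
    ∃ d ∈ zpowers (x * y), d * y * d⁻¹ = x := by
  obtain ⟨k, hk⟩ := ho
  have hxi : x⁻¹ = x := inv_eq_of_mul_eq_one_right hx
  have hyi : y⁻¹ = y := inv_eq_of_mul_eq_one_right hy
  set r := x * y with hr
  have hinv : y * r * y⁻¹ = r⁻¹ := by rw [hr, mul_inv_rev, hxi, hyi, ← mul_assoc, mul_assoc, hy, mul_one]
  have hpow : ∀ m : ℕ, y * r ^ m = (r⁻¹) ^ m * y := fun m => by
    rw [← hinv, conj_pow]; group
  refine ⟨r ^ (k + 1), pow_mem (mem_zpowers r) _, ?_⟩
  rw [mul_assoc, show y * (r ^ (k + 1))⁻¹ = r ^ (k + 1) * y by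
    rw [← inv_pow]
    have := hpow (k + 1)
    calc y * (r⁻¹) ^ (k + 1) = y * (r⁻¹ ^ (k + 1)) * (y * y) := by rw [hy, mul_one]
      _ = y * (r⁻¹ ^ (k + 1) * y) * y := by group
      _ = y * (y * r ^ (k + 1)) * y := by rw [this]
      _ = r ^ (k + 1) * y := by rw [← mul_assoc y y, hy, one_mul],
    ← mul_assoc, ← pow_add, show k + 1 + (k + 1) = (2 * k + 1) + 1 by ring, ← hk, pow_add,
    pow_orderOf_eq_one, one_mul, pow_one, hr, mul_assoc, hy, mul_one]

theorem mem_centralizer_one {x g : G} : g ∈ centralizer ({x} : Set G) ↔ g * x = x * g :=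
  mem_centralizer_singleton_iff

/-- `C(x) = O(C(x)) N_{C(x)}(W)` -/
def Fac (W : Subgroup G) (x : G) : Prop :=
  ∀ g ∈ centralizer ({x} : Set G),
    ∃ o ∈ cor x, ∃ h ∈ normalizer (W : Set G), h ∈ centralizer ({x} : Set G) ∧ g = o * h

theorem fac_of_le {W : Subgroup G} {x : G}
    (h : centralizer ({x} : Set G) ≤ cor x ⊔ (centralizer ({x} : Set G) ⊓ normalizer (W : Set G))) :
    Fac W x := by
  intro g hg
  obtain ⟨o, ho, n, hn, rfl⟩ := (mem_sup_of_le_normalizer
    (inf_le_left.trans (le_normalizer_coreIn_self _))).mp (h hg)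
  exact ⟨o, ho, n, hn.2, hn.1, rfl⟩

/-- a weakly closed central elementary abelian `2`-subgroup -/
structure Base (G : Type u) [Group G] where
  T : Sylow 2 G
  W : Subgroup G
  le_T : W ≤ (T : Subgroup G)
  central : ∀ w ∈ W, ∀ s ∈ (T : Subgroup G), w * s = s * w
  wc : ∀ g : G, W.map (MulAut.conj g).toMonoidHom ≤ (T : Subgroup G) →
    W.map (MulAut.conj g).toMonoidHom = W
  sq : ∀ w ∈ W, w * w = 1

namespace Base

variable (B : Base G)

theorem comm {v w : G} (hv : v ∈ B.W) (hw : w ∈ B.W) : v * w = w * v := B.central v hv w (B.le_T hw)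

theorem pgroup : IsPGroup 2 B.W := B.T.2.to_le B.le_T

theorem inv_eq {w : G} (hw : w ∈ B.W) : w⁻¹ = w := inv_eq_of_mul_eq_one_right (B.sq w hw)

theorem mem_normalizer_of_comm {g : G} (h : ∀ w ∈ B.W, g * w = w * g) :
    g ∈ normalizer (B.W : Set G) :=
  centralizer_le_normalizer _ (mem_centralizer_iff.2 fun w hw => (h w hw).symm)

theorem eq_one_of_odd {M : Subgroup G} (hM : Odd (Nat.card M)) {z : G} (hz : z ∈ M)
    (hz2 : z * z = 1) : z = 1 := by
  refine orderOf_eq_one_iff.1 (Nat.eq_one_of_dvd_coprimes (k := orderOf z)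
    (Nat.coprime_two_right.2 hM).symm (orderOf_dvd_of_pow_eq_one (by rw [pow_two, hz2])) ?_)
  exact Subgroup.orderOf_dvd_natCard _ hz

theorem coprime_card {M : Subgroup G} (hM : Odd (Nat.card M)) :
    (Nat.card B.W).Coprime (Nat.card M) := by
  obtain ⟨n, hn⟩ := IsPGroup.iff_card.1 B.pgroup
  rw [hn]
  exact (Nat.coprime_two_left.2 hM).pow_left n

theorem solvable : Group.IsSolvable B.W :=
  Group.isSolvable_of_comm fun a b => Subtype.ext (B.comm a.2 b.2)

/-- `W` is fixed by a conjugation taking it into `T` -/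
theorem normalizes_of_maps {h : G} (hh : ∀ w ∈ B.W, h * w * h⁻¹ ∈ (B.T : Subgroup G)) :
    h ∈ normalizer (B.W : Set G) :=
  mem_normalizer_iff_map.2 (B.wc h (by rintro _ ⟨w, hw, rfl⟩; exact hh w hw))

/-- a `2`-subgroup containing `W` is conjugate into `T` by a normaliser of `W` -/
theorem conj_into {P : Subgroup G} (hP : IsPGroup 2 P) (hW : B.W ≤ P) :
    ∃ h ∈ normalizer (B.W : Set G), ∀ v ∈ P, h * v * h⁻¹ ∈ (B.T : Subgroup G) := by
  obtain ⟨h, -, hh⟩ := ZStarApps.exists_conj_mem_sylow B.T le_top hP le_top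
  exact ⟨h, B.normalizes_of_maps fun w hw => hh w (hW hw), hh⟩

/-- a `2`-element of a group with `W` in it commutes with `W` -/
theorem commute_of_pgroup {P : Subgroup G} (hP : IsPGroup 2 P) (hW : B.W ≤ P) {a : G} (ha : a ∈ P)
    {w : G} (hw : w ∈ B.W) : a * w = w * a := by
  obtain ⟨h, hn, hh⟩ := B.conj_into hP hW
  have := B.central _ (conj_mem_of_normalizer hn hw) _ (hh a ha)
  have e : h * (w * a) * h⁻¹ = h * (a * w) * h⁻¹ := by
    calc h * (w * a) * h⁻¹ = h * w * h⁻¹ * (h * a * h⁻¹) := by group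
      _ = h * a * h⁻¹ * (h * w * h⁻¹) := this
      _ = _ := by group
  exact (mul_left_cancel (mul_right_cancel e)).symm

theorem conj_sq {u : G} (hu : u ∈ B.W) (g : G) : g * u * g⁻¹ * (g * u * g⁻¹) = 1 := by
  rw [show g * u * g⁻¹ * (g * u * g⁻¹) = g * (u * u) * g⁻¹ by group, B.sq u hu, mul_one,
    mul_inv_cancel]

/-- `W` is strongly closed: a conjugate of one of its elements normalising it lies in it -/
theorem mem_of_conj {u : G} (hu : u ∈ B.W) (g : G)
    (hn : g * u * g⁻¹ ∈ normalizer (B.W : Set G)) : g * u * g⁻¹ ∈ B.W := by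
  set a := g * u * g⁻¹ with ha
  have haW : ∀ w ∈ B.W, a * w = w * a := by
    have ha2 : IsPGroup 2 (zpowers a) :=
      fun ⟨z, hz⟩ => ⟨1, by
        obtain ⟨k, rfl⟩ := mem_zpowers_iff.1 hz
        have h2 : a * a = 1 := B.conj_sq hu g
        ext
        simp only [pow_one, SubgroupClass.coe_pow, OneMemClass.coe_one]
        rw [← zpow_natCast, ← zpow_mul, mul_comm k, zpow_mul, zpow_natCast, pow_two, h2, one_zpow]⟩
    intro w hw
    exact B.commute_of_pgroup (ha2.to_sup_of_normal_right' B.pgroup (zpowers_le.2 hn))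
      le_sup_right (mem_sup_left (mem_zpowers a)) hw
  have hTu : (B.T : Subgroup G) ≤ centralizer ({u} : Set G) := fun s hs =>
    mem_centralizer_one.2 (B.central u hu s hs).symm
  set V := B.W.map (MulAut.conj g⁻¹).toMonoidHom with hV
  have hVu : V ≤ centralizer ({u} : Set G) := by
    rintro _ ⟨w, hw, rfl⟩
    rw [mem_centralizer_one]
    have e := haW w hw
    simp only [MulEquiv.toMonoidHom_eq_coe, MonoidHom.coe_coe, MulAut.conj_apply, inv_inv]
    calc g⁻¹ * w * g * u = g⁻¹ * (w * a) * g := by rw [ha]; group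
      _ = g⁻¹ * (a * w) * g := by rw [e]
      _ = u * (g⁻¹ * w * g) := by rw [ha]; group
  obtain ⟨c, hc, hcV⟩ := ZStarApps.exists_conj_mem_sylow B.T hTu (B.pgroup.map _) hVu
  have hn' : c * g⁻¹ ∈ normalizer (B.W : Set G) := B.normalizes_of_maps fun w hw => by
    have := hcV _ ⟨w, hw, rfl⟩
    simpa [mul_assoc] using this
  rw [mem_normalizer_iff.1 hn' a]
  have : c * g⁻¹ * a * (c * g⁻¹)⁻¹ = c * u * c⁻¹ := by rw [ha]; group
  rw [this, mem_centralizer_one.1 hc, mul_inv_cancel_right]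
  exact hu

/-- conjugates of elements of `W` in `C(x)` -/
theorem exists_core_conj {x : G} (hx : Fac B.W x) {u g : G} (hu : u ∈ B.W)
    (hy : g * u * g⁻¹ ∈ centralizer ({x} : Set G)) :
    ∃ o ∈ cor x, ∃ a ∈ B.W, g * u * g⁻¹ = o * a * o⁻¹ := by
  set y := g * u * g⁻¹ with hyd
  have hy2 : y * y = 1 := B.conj_sq hu g
  obtain ⟨o, ho, h, hh, hhC, e⟩ := hx y hy
  have hyN : ∀ z ∈ cor x, y * z * y⁻¹ ∈ cor x := fun z hz =>
    conj_mem_of_normalizer (le_normalizer_coreIn_self _ hy) hz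
  have hpow : ∀ m : ℕ, ∃ o' ∈ cor x, h ^ m = o' * y ^ m := by
    intro m
    induction m with
    | zero => exact ⟨1, one_mem _, by simp⟩
    | succ m ih =>
      obtain ⟨o', ho', he⟩ := ih
      have hym : y ^ m * o⁻¹ * (y ^ m)⁻¹ ∈ cor x :=
        conj_mem_of_normalizer (pow_mem (le_normalizer_coreIn_self _ hy) m) (inv_mem ho)
      refine ⟨o' * (y ^ m * o⁻¹ * (y ^ m)⁻¹), mul_mem ho' hym, ?_⟩
      rw [pow_succ, he, show h = o⁻¹ * y by rw [e]; group, pow_succ]
      group
  obtain ⟨s, m, hm, hsm⟩ := Nat.exists_eq_two_pow_mul_odd (orderOf_pos h).ne'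
  obtain ⟨o', ho', he⟩ := hpow m
  have hym : y ^ m = y := by
    obtain ⟨j, rfl⟩ := hm
    rw [pow_succ, pow_mul, pow_two, hy2, one_pow, one_mul]
  rw [hym] at he
  set a := h ^ m with had
  have haa : a * a = 1 := by
    have h1 : a * a ∈ cor x := by
      rw [he, show o' * y * (o' * y) = o' * (y * o' * y⁻¹) * (y * y) by group, hy2, mul_one]
      exact mul_mem ho' (hyN o' ho')
    have h2 : (a * a) ^ 2 ^ s = 1 := by
      rw [← pow_two, ← pow_mul, mul_comm 2, pow_mul, had, ← pow_mul h, mul_comm m, ← hsm,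
        pow_orderOf_eq_one, one_pow]
    refine orderOf_eq_one_iff.1 (Nat.eq_one_of_dvd_coprimes ?_ (orderOf_dvd_of_pow_eq_one h2)
      (Subgroup.orderOf_dvd_natCard _ h1))
    exact (Nat.coprime_two_left.2 (odd_coreIn _)).pow_left s
  have hai : a⁻¹ = a := inv_eq_of_mul_eq_one_right haa
  have hyi : y⁻¹ = y := inv_eq_of_mul_eq_one_right hy2
  have hya : y * a ∈ cor x := by
    rw [← hai, he, mul_inv_rev, ← mul_assoc, mul_inv_cancel, one_mul]
    exact inv_mem ho'
  obtain ⟨d, hd, hda⟩ := conj_of_odd hy2 haa ((odd_coreIn _).of_dvd_nat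
    (Subgroup.orderOf_dvd_natCard _ hya))
  refine ⟨d, zpowers_le.2 hya hd, a, ?_, hda.symm⟩
  have e1 : d⁻¹ * g * u * (d⁻¹ * g)⁻¹ = a := by
    rw [show d⁻¹ * g * u * (d⁻¹ * g)⁻¹ = d⁻¹ * y * d by rw [hyd]; group, ← hda]; group
  rw [← e1]
  exact B.mem_of_conj hu _ (by rw [e1]; exact pow_mem hh m)

end Base

end Cfsg.Lib.CosetCore
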