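import Cfsg.Agent.CosetCore.Basic
import Cfsg.Agent.S0205
import Cfsg.Agent.S0217

/-!
The signalizer functor `a ↦ O(C(a)) O(C(⟨W, t⟩))` on `⟨W, t⟩` and its consequence for the
conjugates of `W`.
-/

set_option autoImplicit false
set_option linter.unusedSectionVars false

namespace Cfsg.Lib.CosetCore

open Subgroup Cfsg.Lib.Coprime

universe u

variable {G : Type u} [Group G] [Finite G]

theorem odd_pPrimeCore : Odd (Nat.card (Cfsg.pPrimeCore 2 G)) :=
  Nat.Coprime.odd_of_right (Cfsg.Lib.Components.coprime_card_pPrimeCore (G := G) 2)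

/-- `G = O(G) N(W)` -/
def Concl (W : Subgroup G) : Prop :=
  ∀ g : G, ∃ o ∈ Cfsg.pPrimeCore 2 G, ∃ h ∈ normalizer (W : Set G), g = o * h

/-- the configuration: `x = w t` -/
structure Conf (G : Type u) [Group G] [Finite G] extends Base G where
  t : G
  t_mem : t ∈ (T : Subgroup G)
  t_notMem : t ∉ W
  t_sq : t * t = 1
  fac : ∀ w ∈ W, Fac W (w * t)

namespace Conf

variable (C : Conf G)

theorem comm_t {w : G} (hw : w ∈ C.W) : w * C.t = C.t * w := C.central w hw _ C.t_mem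

theorem coset_sq {w : G} (hw : w ∈ C.W) : w * C.t * (w * C.t) = 1 := by
  rw [show w * C.t * (w * C.t) = w * (C.t * w) * C.t by group, ← C.comm_t hw,
    show w * (w * C.t) * C.t = w * w * (C.t * C.t) by group, C.sq w hw, C.t_sq, one_mul]

/-- `⟨W, t⟩` -/
def A : Subgroup G where
  carrier := {a | a ∈ C.W ∨ a * C.t ∈ C.W}
  one_mem' := Or.inl (one_mem _)
  mul_mem' := by
    intro a b ha hb
    rcases ha with ha | ha <;> rcases hb with hb | hb
    · exact Or.inl (mul_mem ha hb)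
    · right; rw [mul_assoc]; exact mul_mem ha hb
    · right
      rw [show a * b * C.t = a * (b * C.t) by group, C.comm_t hb, ← mul_assoc]
      exact mul_mem ha hb
    · left
      have e : a * b = a * C.t * (b * C.t) := by
        rw [show a * C.t * (b * C.t) = a * (C.t * (b * C.t)) by group, ← C.comm_t hb, mul_assoc b,
          C.t_sq, mul_one]
      rw [e]; exact mul_mem ha hb
  inv_mem' := by
    intro a ha
    rcases ha with ha | ha
    · exact Or.inl (inv_mem ha)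
    · right
      have e : a⁻¹ * C.t = a * C.t := by
        congr 1
        refine inv_eq_of_mul_eq_one_right ?_
        have h := C.coset_sq ha
        rwa [mul_assoc a, C.t_sq, mul_one] at h
      rw [e]; exact ha

theorem mem_A {a : G} (ha : a ∈ C.A) : a ∈ C.W ∨ ∃ w ∈ C.W, a = w * C.t := by
  rcases (ha : a ∈ C.W ∨ a * C.t ∈ C.W) with h | h
  · exact Or.inl h
  · exact Or.inr ⟨_, h, by rw [mul_assoc, C.t_sq, mul_one]⟩

theorem comm_W {a : G} (ha : a ∈ C.A) {w : G} (hw : w ∈ C.W) : a * w = w * a := by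
  rcases C.mem_A ha with h | ⟨v, hv, rfl⟩
  · exact C.comm h hw
  · rw [mul_assoc, ← C.comm_t hw, ← mul_assoc, C.comm hv hw, mul_assoc]

theorem comm_t' {a : G} (ha : a ∈ C.A) : a * C.t = C.t * a := by
  rcases C.mem_A ha with h | ⟨v, hv, rfl⟩
  · exact C.comm_t h
  · rw [← mul_assoc, ← C.comm_t hv]

theorem A_comm : ∀ a ∈ C.A, ∀ b ∈ C.A, a * b = b * a := by
  intro a ha b hb
  rcases C.mem_A hb with h | ⟨v, hv, rfl⟩
  · exact C.comm_W ha h
  · rw [← mul_assoc, C.comm_W ha hv, mul_assoc, C.comm_t' ha, mul_assoc]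

theorem A_sq : ∀ a ∈ C.A, a ^ 2 = 1 := by
  intro a ha
  rw [pow_two]
  rcases C.mem_A ha with h | ⟨v, hv, rfl⟩
  · exact C.sq a h
  · exact C.coset_sq hv

theorem W_le_A : C.W ≤ C.A := fun _ h => Or.inl h

theorem card_A (h4 : 4 ≤ Nat.card C.W) : 2 ^ 3 ≤ Nat.card C.A := by
  refine le_trans (show 2 ^ 3 ≤ Nat.card (C.W ⊕ C.W) by rw [Nat.card_sum]; omega) ?_
  refine Nat.card_le_card_of_injective (fun s => Sum.elim (fun w : C.W => (⟨w, Or.inl w.2⟩ : C.A))
    (fun w : C.W => (⟨w * C.t, Or.inr (by rw [mul_assoc, C.t_sq, mul_one]; exact w.2)⟩ : C.A)) s) ?_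
  rintro (v | v) (w | w) h0 <;>
    have h := congrArg Subtype.val h0 <;> simp only [Sum.elim_inl, Sum.elim_inr] at h
  · exact congrArg _ (Subtype.ext h)
  · refine absurd ?_ C.t_notMem
    rw [show C.t = (w : G)⁻¹ * v by rw [h]; group]
    exact mul_mem (inv_mem w.2) v.2
  · refine absurd ?_ C.t_notMem
    rw [show C.t = (v : G)⁻¹ * w by rw [← h]; group]
    exact mul_mem (inv_mem v.2) w.2
  · exact congrArg _ (Subtype.ext (mul_right_cancel h))

/-- `C(W) ∩ C(t)` -/
abbrev CA : Subgroup G := centralizer (C.W : Set G) ⊓ centralizer ({C.t} : Set G)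

/-- `O(C(W) ∩ C(t))` -/
abbrev D : Subgroup G := coreIn C.CA

theorem mem_CA_of {a : G} (ha : a ∈ C.A) : a ∈ C.CA :=
  ⟨mem_centralizer_iff.2 fun w hw => (C.comm_W ha hw).symm, mem_centralizer_one.2 (C.comm_t' ha)⟩

theorem CA_le {a : G} (ha : a ∈ C.A) : C.CA ≤ centralizer ({a} : Set G) := by
  intro c hc
  rw [mem_centralizer_one]
  have h1 : ∀ w ∈ C.W, c * w = w * c := fun w hw => (mem_centralizer_iff.1 hc.1 w hw).symm
  rcases C.mem_A ha with h | ⟨v, hv, rfl⟩
  · exact h1 a h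
  · rw [← mul_assoc, h1 v hv, mul_assoc, mem_centralizer_one.1 hc.2, mul_assoc]

theorem centralizer_W_le {b : G} (hb : b ∈ C.W) :
    centralizer (C.W : Set G) ≤ centralizer ({b} : Set G) :=
  centralizer_le (Set.singleton_subset_iff.2 hb)

/-- `C(W) ∩ C(w t) = C(W) ∩ C(t)` -/
theorem inf_coset {w : G} (hw : w ∈ C.W) :
    centralizer (C.W : Set G) ⊓ centralizer ({w * C.t} : Set G) = C.CA := by
  ext c
  simp only [mem_inf, mem_centralizer_one]
  refine and_congr_right fun hc => ?_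
  have h1 := (mem_centralizer_iff.1 hc w hw).symm
  constructor
  · intro h
    rw [← mul_assoc, h1, mul_assoc, mul_assoc] at h
    exact mul_left_cancel h
  · intro h
    rw [← mul_assoc, h1, mul_assoc, h, mul_assoc]

theorem D_le_W : C.D ≤ centralizer (C.W : Set G) := (coreIn_le _).trans inf_le_left

/-- the value of the functor -/
def theta (a : G) : Subgroup G := cor a ⊔ C.D

theorem D_le_cent {a : G} (ha : a ∈ C.A) : C.D ≤ centralizer ({a} : Set G) :=
  (coreIn_le _).trans (C.CA_le ha)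

theorem theta_le {a : G} (ha : a ∈ C.A) : C.theta a ≤ centralizer ({a} : Set G) :=
  sup_le (coreIn_le _) (C.D_le_cent ha)

theorem theta_odd {a : G} (ha : a ∈ C.A) : Odd (Nat.card (C.theta a)) :=
  odd_sup ((C.D_le_cent ha).trans (le_normalizer_coreIn_self _)) (odd_coreIn _) (odd_coreIn _)

theorem theta_inv {a b : G} (ha : a ∈ C.A) (hb : b ∈ C.A) :
    b ∈ normalizer (C.theta a : Set G) := by
  have h1 : b ∈ normalizer (cor a : Set G) :=
    le_normalizer_coreIn_self _ (mem_centralizer_one.2 (C.A_comm b hb a ha))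
  have h2 : b ∈ normalizer (C.D : Set G) := le_normalizer_coreIn_self _ (C.mem_CA_of hb)
  rw [mem_normalizer_iff_map, theta, Subgroup.map_sup, mem_normalizer_iff_map.1 h1,
    mem_normalizer_iff_map.1 h2]

/-- a factorising normal subgroup of a centraliser lies in its core -/
theorem le_cor_of_fac {x : G} (hx : Fac C.W x) {M : Subgroup G}
    (hM : M ≤ centralizer ({x} : Set G)) (hodd : Odd (Nat.card M))
    (hn : ∀ h ∈ normalizer (C.W : Set G), h ∈ centralizer ({x} : Set G) →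
      h ∈ normalizer (M : Set G)) : M ≤ cor x := by
  refine le_trans (le_sup_right (a := cor x)) (le_coreIn (sup_le (coreIn_le _) hM) ?_
    (odd_sup (hM.trans (le_normalizer_coreIn_self _)) (odd_coreIn _) hodd))
  intro g hg
  obtain ⟨o, ho, h, hh, hhC, rfl⟩ := hx g hg
  refine mul_mem (le_normalizer (mem_sup_left ho)) ?_
  rw [mem_normalizer_iff_map, Subgroup.map_sup,
    mem_normalizer_iff_map.1 (le_normalizer_coreIn_self _ hhC), mem_normalizer_iff_map.1 (hn h hh hhC)]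

theorem normalizer_le_centralizer_W :
    normalizer (C.W : Set G) ≤ normalizer (centralizer (C.W : Set G) : Set G) := by
  intro h hh
  rw [mem_normalizer_iff]
  intro n
  simp only [mem_centralizer_iff, SetLike.mem_coe]
  constructor
  · intro hn w hw
    have := hn _ ((mem_normalizer_iff''.1 hh w).1 hw)
    calc w * (h * n * h⁻¹) = h * (h⁻¹ * w * h * n) * h⁻¹ := by group
      _ = h * (n * (h⁻¹ * w * h)) * h⁻¹ := by rw [this]
      _ = _ := by group
  · intro hn w hw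
    have := hn _ (conj_mem_of_normalizer hh hw)
    calc w * n = h⁻¹ * (h * w * h⁻¹ * (h * n * h⁻¹)) * h := by group
      _ = h⁻¹ * (h * n * h⁻¹ * (h * w * h⁻¹)) * h := by rw [this]
      _ = _ := by group

/-- `O(C(W)) ≤ O(C(b))` -/
theorem E_le {b : G} (hb : b ∈ C.W) (hfb : Fac C.W b) :
    coreIn (centralizer (C.W : Set G)) ≤ cor b :=
  C.le_cor_of_fac hfb ((coreIn_le _).trans (C.centralizer_W_le hb)) (odd_coreIn _)
    fun h hh _ => normalizer_le_coreIn _ (C.normalizer_le_centralizer_W hh)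

/-- `O(C(W) ∩ C(t)) ≤ O(C(w t))` -/
theorem D_le {w : G} (hw : w ∈ C.W) : C.D ≤ cor (w * C.t) := by
  refine C.le_cor_of_fac (C.fac w hw) ((coreIn_le _).trans ?_) (odd_coreIn _) fun h hh hhC => ?_
  · rw [← C.inf_coset hw]; exact inf_le_right
  · refine normalizer_le_coreIn _ ?_
    rw [mem_normalizer_iff_map, ← C.inf_coset hw,
      Subgroup.map_inf _ _ _ (MulAut.conj h).injective,
      mem_normalizer_iff_map.1 (C.normalizer_le_centralizer_W hh),
      mem_normalizer_iff_map.1 (le_normalizer hhC)]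

/-- `O(C(a)) ∩ C(W) ∩ K ≤ O(K)` for `K ≤ C(W) ∩ C(a)` -/
theorem mem_coreIn_of {a : G} {K : Subgroup G} (hKW : K ≤ centralizer (C.W : Set G))
    (hKa : K ≤ centralizer ({a} : Set G)) {e : G} (he : e ∈ cor a) (heK : e ∈ K) :
    e ∈ coreIn K :=
  le_coreIn inf_le_right (le_normalizer_inf (hKa.trans (le_normalizer_coreIn_self _)) le_normalizer)
    (odd_of_le inf_le_left (odd_coreIn _)) (⟨he, heK⟩ : e ∈ cor a ⊓ K)

/-- the fixed points of `W` in the value at `a`, inside `C(b)` -/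
theorem fixed_le {a b : G} (ha : a ∈ C.A) (hb : b ∈ C.A) (hfb : Fac C.W b) {q : G}
    (hq : q ∈ C.theta a) (hqb : q ∈ centralizer ({b} : Set G))
    (hqW : q ∈ centralizer (C.W : Set G)) : q ∈ C.theta b := by
  obtain ⟨e, he, d, hd, rfl⟩ :=
    (mem_sup_of_le_normalizer ((C.D_le_cent ha).trans (le_normalizer_coreIn_self _))).mp hq
  have heW : e ∈ centralizer (C.W : Set G) := by
    have := mul_mem hqW (inv_mem (C.D_le_W hd))
    simpa using this
  have heb : e ∈ centralizer ({b} : Set G) := by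
    have := mul_mem hqb (inv_mem (C.D_le_cent hb hd))
    simpa using this
  refine mul_mem ?_ (mem_sup_right hd)
  rcases C.mem_A ha with haW | ⟨v, hv, rfl⟩
  · have heE : e ∈ coreIn (centralizer (C.W : Set G)) :=
      C.mem_coreIn_of le_rfl (C.centralizer_W_le haW) he heW
    rcases C.mem_A hb with hbW | ⟨w, hw, rfl⟩
    · exact mem_sup_left (C.E_le hbW hfb heE)
    · refine mem_sup_right (le_coreIn (M := coreIn (centralizer (C.W : Set G)) ⊓ C.CA) inf_le_right
        (le_normalizer_inf (inf_le_left.trans (le_normalizer_coreIn_self _)) le_normalizer)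
        (odd_of_le inf_le_left (odd_coreIn _)) ⟨heE, ?_⟩)
      exact (C.inf_coset hw).le ⟨heW, heb⟩
  · refine mem_sup_right (C.mem_coreIn_of inf_le_left ?_ he ?_)
    · exact (C.inf_coset hv).ge.trans inf_le_right
    · exact (C.inf_coset hv).le ⟨heW, coreIn_le _ he⟩

theorem balance {a b : G} (ha : a ∈ C.A) (hb : b ∈ C.A) (hfb : Fac C.W b) :
    C.theta a ⊓ centralizer ({b} : Set G) ≤ C.theta b := by
  set Q := C.theta a ⊓ centralizer ({b} : Set G) with hQ
  have hQb : Q ≤ centralizer ({b} : Set G) := inf_le_right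
  have hQodd : Odd (Nat.card Q) := odd_of_le inf_le_left (C.theta_odd ha)
  have hWn : C.W ≤ normalizer (Q : Set G) := by
    refine le_normalizer_inf (fun w hw => C.theta_inv ha (C.W_le_A hw)) (fun w hw => le_normalizer ?_)
    exact mem_centralizer_one.2 (C.comm_W hb hw).symm
  intro q hq
  have hQn : Q ≤ normalizer (cor b : Set G) := hQb.trans (le_normalizer_coreIn_self _)
  have hWb : ∀ w ∈ C.W, w ∈ normalizer (cor b : Set G) := fun w hw =>
    le_normalizer_coreIn_self _ (mem_centralizer_one.2 (C.comm_W hb hw).symm)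
  have hstab : ∀ w ∈ C.W, q⁻¹ * w * q * w⁻¹ ∈ Q ⊓ cor b := by
    intro w hw
    have hQ' : q⁻¹ * (w * q * w⁻¹) ∈ Q :=
      mul_mem (inv_mem hq) (conj_mem_of_normalizer (hWn hw) hq)
    obtain ⟨o, ho, h, hh, hhC, e⟩ := hfb q⁻¹ (inv_mem (hQb hq))
    set b' := h * w * h⁻¹ with hb'
    have hb'W : b' ∈ C.W := conj_mem_of_normalizer hh hw
    have e1 : q⁻¹ * w * q * w⁻¹ = o * (b' * o⁻¹ * b'⁻¹) * (b' * w⁻¹) := by
      rw [show q = h⁻¹ * o⁻¹ by rw [← inv_inv q, e, mul_inv_rev], hb']; group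
    have hc : o * (b' * o⁻¹ * b'⁻¹) ∈ cor b :=
      mul_mem ho (conj_mem_of_normalizer (hWb b' hb'W) (inv_mem ho))
    have hz : b' * w⁻¹ = 1 := by
      refine Base.eq_one_of_odd (odd_sup hQn (odd_coreIn _) hQodd) ?_
        (C.sq _ (mul_mem hb'W (inv_mem hw)))
      rw [show b' * w⁻¹ = (o * (b' * o⁻¹ * b'⁻¹))⁻¹ * (q⁻¹ * (w * q * w⁻¹)) by
        rw [show q⁻¹ * (w * q * w⁻¹) = q⁻¹ * w * q * w⁻¹ by group, e1]; group]
      exact mul_mem (mem_sup_left (inv_mem hc)) (mem_sup_right hQ')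
    refine ⟨by simpa [mul_assoc] using hQ', ?_⟩
    show q⁻¹ * w * q * w⁻¹ ∈ cor b
    rw [e1, hz, mul_one]; exact hc
  obtain ⟨d, hd, hqd⟩ := exists_fixed_in_coset (A := C.W) (D := Q ⊓ cor b)
    (le_normalizer_inf hWn hWb) (C.coprime_card (odd_of_le inf_le_left hQodd)) (Or.inl C.solvable)
    hstab
  have h1 : q * d ∈ Q := mul_mem hq hd.1
  have h2 := C.fixed_le ha hb hfb h1.1 h1.2 hqd
  have h3 := mul_mem h2 (inv_mem (mem_sup_left hd.2 : d ∈ C.theta b))
  simpa using h3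

/-- every conjugate of an element of `W` is conjugate to one by the cores -/
theorem exists_conj_cores {u : G} (hu : u ∈ C.W) (hu1 : u ≠ 1) (g : G) (X : Subgroup G)
    (hX : ∀ w ∈ C.W, cor (w * C.t) ≤ X) :
    ∃ d ∈ X, ∃ b ∈ C.W, g * u * g⁻¹ = d * b * d⁻¹ := by
  set x := C.t with hx
  set y := g * u * g⁻¹ with hy
  have hy2 : y * y = 1 := C.conj_sq hu g
  have hxi : x⁻¹ = x := inv_eq_of_mul_eq_one_right C.t_sq
  have hyi : y⁻¹ = y := inv_eq_of_mul_eq_one_right hy2
  have hfx : Fac C.W x := by simpa using C.fac 1 (one_mem _)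
  set r := x * y with hr
  have hyv : y = g * u * g⁻¹ := hy
  clear_value y r
  obtain ⟨s, m, hm, hsm⟩ := Nat.exists_eq_two_pow_mul_odd (orderOf_pos r).ne'
  obtain ⟨j, hj⟩ := hm
  have hxr : x * r * x⁻¹ = r⁻¹ := by rw [hr, mul_inv_rev, hyi, ← mul_assoc, C.t_sq, one_mul]
  have hxp : ∀ k : ℕ, x * r ^ k * x⁻¹ = (r⁻¹) ^ k := fun k => by rw [← hxr, conj_pow]
  have hy' : x * r ^ m = r⁻¹ ^ j * y * (r⁻¹ ^ j)⁻¹ := by
    have h1 : ∀ k : ℕ, x * r ^ k = r⁻¹ ^ k * x := fun k => by rw [← hxp k, inv_mul_cancel_right]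
    have h2 : ∀ k : ℕ, y * r ^ k = r⁻¹ ^ k * y := fun k => by
      have hyr : y * r * y⁻¹ = r⁻¹ := by
        rw [hr, mul_inv_rev, hyi, hxi, mul_assoc y, mul_assoc x, hy2, mul_one]
      rw [← hyr, conj_pow, inv_mul_cancel_right]
    have h4 : x = r * y := by rw [hr, mul_assoc, hy2, mul_one]
    have h3 : x * r ^ (2 * j + 1) = r⁻¹ ^ (2 * j) * y := by
      conv_lhs => rw [h1, h4, pow_succ]
      group
    rw [hj, h3, inv_pow r j, inv_inv, mul_assoc _ y, h2, ← mul_assoc, ← inv_pow, ← pow_add, two_mul]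
  have hyu : x * r ^ m = (r⁻¹ ^ j * g) * u * (r⁻¹ ^ j * g)⁻¹ := by rw [hy', hy]; group
  have hP : IsPGroup 2 ↥(zpowers x ⊔ zpowers (r ^ m)) := by
    refine IsPGroup.to_sup_of_normal_right' ?_ ?_ (zpowers_le.2 ?_)
    · intro z
      obtain ⟨k, hk⟩ := mem_zpowers_iff.1 z.2
      refine ⟨1, Subtype.ext ?_⟩
      rw [pow_one, SubgroupClass.coe_pow, ← hk, OneMemClass.coe_one, ← zpow_natCast, ← zpow_mul,
        mul_comm k, zpow_mul, zpow_natCast, pow_two, C.t_sq, one_zpow]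
    · intro z
      obtain ⟨k, hk⟩ := mem_zpowers_iff.1 z.2
      refine ⟨s, Subtype.ext ?_⟩
      rw [SubgroupClass.coe_pow, ← hk, OneMemClass.coe_one, ← zpow_natCast, ← zpow_mul,
        mul_comm k, zpow_mul, zpow_natCast, ← pow_mul, mul_comm m, ← hsm, pow_orderOf_eq_one,
        one_zpow]
    · rw [mem_normalizer_iff_map, MonoidHom.map_zpowers]
      show zpowers (x * r ^ m * x⁻¹) = _
      rw [hxp, inv_pow, zpowers_inv]
  obtain ⟨h, -, hh⟩ := ZStarApps.exists_conj_mem_sylow C.T le_top hP le_top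
  have hhx := hh x (mem_sup_left (mem_zpowers x))
  have hhy := hh (x * r ^ m) (mul_mem (mem_sup_left (mem_zpowers x)) (mem_sup_right (mem_zpowers _)))
  have hW' : h * (x * r ^ m) * h⁻¹ ∈ C.W := by
    have e : h * (x * r ^ m) * h⁻¹ = (h * (r⁻¹ ^ j * g)) * u * (h * (r⁻¹ ^ j * g))⁻¹ := by
      rw [hyu]; group
    rw [e]
    refine C.mem_of_conj hu _ (C.mem_normalizer_of_comm fun w hw => ?_)
    rw [← e]; exact (C.central w hw _ hhy).symm
  have hcom : x * (x * r ^ m) = x * r ^ m * x := by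
    have := C.central _ hW' _ hhx
    have e : h * (x * r ^ m * x) * h⁻¹ = h * (x * (x * r ^ m)) * h⁻¹ := by
      calc h * (x * r ^ m * x) * h⁻¹ = h * (x * r ^ m) * h⁻¹ * (h * x * h⁻¹) := by group
        _ = h * x * h⁻¹ * (h * (x * r ^ m) * h⁻¹) := this
        _ = _ := by group
    exact (mul_left_cancel (mul_right_cancel e)).symm
  obtain ⟨o, ho, a, haW, ha⟩ := C.exists_core_conj hfx (u := u) (g := r⁻¹ ^ j * g) hu
    (by rw [← hyu, mem_centralizer_one]; exact hcom.symm)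
  rw [← hyu] at ha
  have hox : o * x = x * o := mem_centralizer_one.1 (coreIn_le _ ho)
  have hox' : x * o⁻¹ = o⁻¹ * x := by
    rw [eq_inv_mul_iff_mul_eq, ← mul_assoc, hox, mul_inv_cancel_right]
  have hrm : r ^ m = o * (a * x) * o⁻¹ := by
    have : r ^ m = x * (x * r ^ m) := by rw [← mul_assoc, C.t_sq, one_mul]
    rw [this, hcom, ha, mul_assoc _ o⁻¹ x, ← hox']
    group
  have hym : y * r ^ m = r ^ m * y := by
    have hxm : x * r ^ m * x⁻¹ = r ^ m := by rw [hxi, ← hcom, ← mul_assoc, C.t_sq, one_mul]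
    have hyr : y * r * y⁻¹ = x * r * x⁻¹ := by
      rw [hxr, hr, mul_inv_rev, hyi, hxi, mul_assoc y, mul_assoc x, hy2, mul_one]
    have : y * r ^ m * y⁻¹ = r ^ m := by rw [← conj_pow, hyr, conj_pow, hxm]
    exact (mul_inv_eq_iff_eq_mul.1 this)
  have hy3 : o⁻¹ * g * u * (o⁻¹ * g)⁻¹ ∈ centralizer ({a * x} : Set G) := by
    rw [mem_centralizer_one, show o⁻¹ * g * u * (o⁻¹ * g)⁻¹ = o⁻¹ * y * o by rw [hy]; group]
    have e : a * x = o⁻¹ * r ^ m * o := by rw [hrm]; group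
    rw [e]
    calc o⁻¹ * y * o * (o⁻¹ * r ^ m * o) = o⁻¹ * (y * r ^ m) * o := by group
      _ = o⁻¹ * (r ^ m * y) * o := by rw [hym]
      _ = _ := by group
  obtain ⟨o', ho', b, hb, hb'⟩ := C.exists_core_conj (C.fac a haW) hu hy3
  refine ⟨o * o', mul_mem ?_ (hX a haW ho'), b, hb, ?_⟩
  · have := hX 1 (one_mem _); rw [one_mul] at this; exact this ho
  · rw [show (o * o') * b * (o * o')⁻¹ = o * (o' * b * o'⁻¹) * o⁻¹ by group, ← hb', hy]; group

theorem concl_of_fac (h4 : 4 ≤ Nat.card C.W) (hfac : ∀ b ∈ C.W, b ≠ 1 → Fac C.W b) :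
    Concl C.W := by
  haveI : Fact (Nat.Prime 2) := ⟨Nat.prime_two⟩
  have hfA : ∀ b ∈ C.A, b ≠ 1 → Fac C.W b := fun b hb hb1 => by
    rcases C.mem_A hb with h | ⟨w, hw, rfl⟩
    · exact hfac b h hb1
    · exact C.fac w hw
  obtain ⟨hodd, -⟩ := Cfsg.Agent.S0217.result C.A C.A_comm C.A_sq (C.card_A h4) C.theta
    (fun a ha _ => C.theta_le ha)
    (fun a ha _ => (C.theta_odd ha).not_two_dvd_nat)
    (fun a ha _ b hb x hx => conj_mem_of_normalizer (C.theta_inv ha hb) hx)
    (fun a ha _ => Cfsg.Agent.S0205.result (C.theta_odd ha))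
    (fun a ha _ b hb hb1 => C.balance ha hb (hfA b hb hb1))
  set X : Subgroup G := ⨆ a : {a : G // a ∈ C.A ∧ a ≠ 1}, C.theta a with hXdef
  have hXodd : Odd (Nat.card X) := Nat.not_even_iff_odd.1 (fun h => hodd h.two_dvd)
  have hcor : ∀ w ∈ C.W, cor (w * C.t) ≤ X := fun w hw => by
    refine le_trans (le_sup_left (b := C.D)) (le_iSup (fun a : {a : G // a ∈ C.A ∧ a ≠ 1} =>
      C.theta a) ⟨w * C.t, Or.inr (by rw [mul_assoc, C.t_sq, mul_one]; exact hw), fun h => ?_⟩)
    exact C.t_notMem (by rw [← inv_eq_of_mul_eq_one_right h]; exact inv_mem hw)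
  have hWX : C.W ≤ normalizer (X : Set G) := fun w hw => by
    rw [mem_normalizer_iff_map, hXdef, Subgroup.map_iSup]
    exact iSup_congr fun a => mem_normalizer_iff_map.1 (C.theta_inv a.2.1 (C.W_le_A hw))
  set N := Subgroup.normalClosure (C.W : Set G) with hN
  have hNle : N ≤ X ⊔ C.W := by
    refine (Subgroup.closure_le _).2 fun z hz => ?_
    obtain ⟨u, hu, hz⟩ := Group.mem_conjugatesOfSet_iff.1 hz
    obtain ⟨g, rfl⟩ := isConj_iff.1 hz
    rcases eq_or_ne u 1 with rfl | hu1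
    · simp [one_mem]
    · obtain ⟨d, hd, b, hb, e⟩ := C.exists_conj_cores hu hu1 g X hcor
      rw [SetLike.mem_coe, e]
      exact mul_mem (mul_mem (mem_sup_left hd) (mem_sup_right hb)) (inv_mem (mem_sup_left hd))
  have hWN : C.W ≤ N := Subgroup.le_normalClosure
  have hNX : X ⊓ N ≤ Cfsg.pPrimeCore 2 G :=
    (le_coreIn inf_le_right
      (le_normalizer_inf (hNle.trans (sup_le le_normalizer hWX)) le_normalizer)
      (odd_of_le inf_le_left hXodd)).trans coreIn_le_pPrimeCore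
  set O := Cfsg.pPrimeCore 2 G with hO
  intro g
  have hsub : conjMap g C.W ≤ O ⊔ C.W := by
    intro z hz
    have hzN : z ∈ N := by
      obtain ⟨w, hw, rfl⟩ := hz
      exact (Subgroup.normalClosure_normal).conj_mem w (hWN hw) g
    obtain ⟨e, he, w, hw, rfl⟩ := (mem_sup_of_le_normalizer hWX).mp (hNle hzN)
    refine mul_mem_sup (hNX ⟨he, ?_⟩) hw
    have := mul_mem hzN (inv_mem (hWN hw))
    simpa using this
  obtain ⟨d, hd, he⟩ := exists_conj_eq_of_coprime (N := O) (H := C.W) (K := conjMap g C.W)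
    (by rw [hO, normalizer_eq_top]; exact le_top) (C.coprime_card odd_pPrimeCore).symm
    (Or.inr C.solvable) hsub (card_conjMap _ _)
  refine ⟨d, hd, d⁻¹ * g, ?_, by group⟩
  rw [mem_normalizer_iff_map]
  show conjMap (d⁻¹ * g) C.W = C.W
  rw [← conjMap_mul, he, conjMap_inv_conjMap]

end Conf

end Cfsg.Lib.CosetCore
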