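import Cfsg.Agent.CosetCore.Functor

/-!
`G = O(G) N(W)` for a weakly closed central elementary abelian `2`-subgroup `W` lying in
`O_{2',2}` of the centralisers of the involutions of a coset `W t`.
-/

set_option autoImplicit false
set_option linter.unusedSectionVars false

namespace Cfsg.Lib.CosetCore

open Subgroup Cfsg.Lib.Coprime

universe u

namespace Conf

variable {G : Type u} [Group G] [Finite G] (C : Conf G)

theorem concl_small (h : Nat.card C.W < 4) : Concl C.W := by
  intro g
  haveI : Fact (Nat.Prime 2) := ⟨Nat.prime_two⟩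
  by_cases hbot : C.W = ⊥
  · refine ⟨1, one_mem _, g, ?_, (one_mul g).symm⟩
    rw [hbot, normalizer_eq_top]; exact mem_top g
  obtain ⟨u, hu, hu1⟩ := (Subgroup.bot_or_exists_ne_one C.W).resolve_left hbot
  have hW : ∀ w ∈ C.W, w = 1 ∨ w = u := by
    intro w hw
    obtain ⟨k, hk⟩ := IsPGroup.iff_card.1 C.pgroup
    have hk1 : k ≤ 1 := by
      by_contra hk2
      have := Nat.pow_le_pow_right (show 0 < 2 by omega) (show 2 ≤ k by omega)
      omega
    have hcard : Nat.card C.W ≤ 2 :=
      hk.le.trans ((Nat.pow_le_pow_right (show 0 < 2 by omega) hk1).trans (by norm_num))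
    by_contra hne
    simp only [not_or] at hne
    haveI : Fintype C.W := Fintype.ofFinite _
    classical
    have h3 : 3 ≤ Nat.card C.W := by
      rw [Nat.card_eq_fintype_card]
      refine le_trans ?_ (Finset.card_le_univ ({1, ⟨u, hu⟩, ⟨w, hw⟩} : Finset C.W))
      rw [Finset.card_insert_of_notMem, Finset.card_insert_of_notMem, Finset.card_singleton]
      · simp only [Finset.mem_singleton, Subtype.mk.injEq]; exact fun e => hne.2 e.symm
      · simp only [Finset.mem_insert, Finset.mem_singleton, not_or]
        exact ⟨fun e => hu1 (congrArg Subtype.val e).symm, fun e => hne.1 (congrArg Subtype.val e).symm⟩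
    omega
  have hiso : Cfsg.IsIsolatedInvolution u := by
    refine ⟨orderOf_eq_prime (by rw [pow_two, C.sq u hu]) hu1, fun a ha => ?_⟩
    have hmem : a * u * a⁻¹ ∈ C.W := by
      refine C.mem_of_conj hu a (C.mem_normalizer_of_comm fun w hw => ?_)
      rcases hW w hw with rfl | rfl
      · rw [mul_one, one_mul]
      · exact ha.eq.symm
    refine (hW _ hmem).resolve_left fun e => hu1 ?_
    exact conj_eq_one_iff.1 e
  have hO : C.W ≤ normalizer (Cfsg.pPrimeCore 2 G : Set G) := by rw [normalizer_eq_top]; exact le_top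
  obtain ⟨d, hd, hgd⟩ := exists_fixed_in_coset (A := C.W) hO (C.coprime_card odd_pPrimeCore)
    (Or.inl C.solvable) (k := g) (fun w hw => by
      rcases hW w hw with rfl | rfl
      · simp [one_mem]
      · have := inv_mem (ZStarApps.zstarProp hiso g⁻¹)
        simpa [mul_assoc] using this)
  refine ⟨g * d * d⁻¹ * (g * d)⁻¹, Subgroup.Normal.conj_mem inferInstance _ (inv_mem hd) _, g * d,
    centralizer_le_normalizer _ hgd, by group⟩

theorem fac_of_centralizer {b : G} (hb : b ∈ C.W)
    (ih : ∀ C' : Conf ↥(centralizer ({b} : Set G)), Concl C'.W) : Fac C.W b := by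
  haveI : Fact (Nat.Prime 2) := ⟨Nat.prime_two⟩
  set H := centralizer ({b} : Set G) with hH
  have hTH : (C.T : Subgroup G) ≤ H := fun s hs => mem_centralizer_one.2 (C.central b hb s hs).symm
  have hWH : C.W ≤ H := C.le_T.trans hTH
  have hT' : ∀ z : H, z ∈ (C.T.subtype hTH : Subgroup H) ↔ (z : G) ∈ (C.T : Subgroup G) :=
    fun z => by simp [Sylow.coe_subtype, mem_subgroupOf]
  let C' : Conf ↥H :=
    { T := C.T.subtype hTH
      W := C.W.subgroupOf H
      le_T := fun z hz => (hT' z).2 (C.le_T hz)
      central := fun w hw s hs => Subtype.ext (C.central _ hw _ ((hT' s).1 hs))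
      wc := fun g hg => by
        have key : C.W.map (MulAut.conj (g : G)).toMonoidHom = C.W := by
          refine C.wc g ?_
          rintro _ ⟨w, hw, rfl⟩
          exact (hT' _).1 (hg ⟨⟨w, hWH hw⟩, hw, rfl⟩)
        refine mem_normalizer_iff_map.1 (mem_normalizer_iff.2 fun z => ?_)
        exact (mem_normalizer_iff.1 (mem_normalizer_iff_map.2 key) z)
      sq := fun w hw => Subtype.ext (C.sq _ hw)
      t := ⟨C.t, hTH C.t_mem⟩
      t_mem := (hT' _).2 C.t_mem
      t_notMem := C.t_notMem
      t_sq := Subtype.ext C.t_sq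
      fac := fun w hw g hg => by
        set x : G := (w : G) * C.t with hx
        have hgx : (g : G) ∈ centralizer ({x} : Set G) := by
          rw [mem_centralizer_one]
          exact congrArg Subtype.val (mem_centralizer_one.1 hg)
        obtain ⟨o, ho, h, hh, hhC, e⟩ := C.fac w hw g hgx
        have hwx : ∀ v ∈ C.W, v ∈ normalizer (cor x : Set G) := fun v hv =>
          le_normalizer_coreIn_self _ (mem_centralizer_one.2 (by
            rw [hx, ← mul_assoc, C.comm hv (show (w : G) ∈ C.W from hw), mul_assoc, C.comm_t hv, mul_assoc]))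
        set b' := h * b * h⁻¹ with hb'
        have hb'W : b' ∈ C.W := conj_mem_of_normalizer hh hb
        have hgb : (g : G) * b = b * g := mem_centralizer_one.1 g.2
        have e1 : b * b'⁻¹ = o * (b' * o⁻¹ * b'⁻¹) := by
          calc b * b'⁻¹ = b * g * (g : G)⁻¹ * b'⁻¹ := by group
            _ = g * b * (g : G)⁻¹ * b'⁻¹ := by rw [hgb]
            _ = _ := by rw [e, hb']; group
        have hz : b * b'⁻¹ = 1 := by
          refine Base.eq_one_of_odd (odd_coreIn (centralizer ({x} : Set G))) ?_
            (C.sq _ (mul_mem hb (inv_mem hb'W)))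
          rw [e1]
          exact mul_mem ho (conj_mem_of_normalizer (hwx b' hb'W) (inv_mem ho))
        have hhb : h ∈ H := by
          rw [hH, mem_centralizer_one]
          have : b' = b := (mul_inv_eq_one.1 hz).symm
          exact mul_inv_eq_iff_eq_mul.1 this
        have hob : o ∈ H := by
          have : o = (g : G) * h⁻¹ := by rw [e]; group
          rw [this]; exact mul_mem g.2 (inv_mem hhb)
        refine ⟨⟨o, hob⟩, ?_, ⟨h, hhb⟩, ?_, ?_, Subtype.ext e⟩
        · refine le_coreIn (M := (cor x).subgroupOf H ⊓ centralizer ({(⟨x, mul_mem (hWH hw) (hTH C.t_mem)⟩ : H)} : Set H))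
            inf_le_right (le_normalizer_inf (fun z hz => ?_) le_normalizer) ?_
            ⟨ho, mem_centralizer_one.2 (Subtype.ext (mem_centralizer_one.1 (coreIn_le _ ho)))⟩
          · refine mem_normalizer_iff.2 fun v => ?_
            exact mem_normalizer_iff.1 (le_normalizer_coreIn_self _
              (mem_centralizer_one.2 (congrArg Subtype.val (mem_centralizer_one.1 hz)))) v
          · refine (odd_coreIn (centralizer ({x} : Set G))).of_dvd_nat ?_
            exact (card_dvd_of_le inf_le_left).trans (Subgroup.card_comap_dvd_of_injective _ _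
              (Subgroup.subtype_injective H))
        · exact mem_normalizer_iff.2 fun v => mem_normalizer_iff.1 hh v
        · exact mem_centralizer_one.2 (Subtype.ext (mem_centralizer_one.1 hhC)) }
  intro g hg
  obtain ⟨o, ho, h, hh, e⟩ := ih C' ⟨g, hg⟩
  refine ⟨o, ⟨o, ho, rfl⟩, h, ?_, h.2, congrArg Subtype.val e⟩
  refine mem_normalizer_iff_map.2 (C.wc h ?_)
  rintro _ ⟨w, hw, rfl⟩
  exact C.le_T ((mem_normalizer_iff.1 hh ⟨w, hWH hw⟩).1 hw)

theorem concl_central {u : G} (hu : u ∈ C.W) (hu1 : u ≠ 1) (huZ : u ∈ center G)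
    (ih : ∀ U : Subgroup G, ∀ (_ : U.Normal), U ≠ ⊥ → ∀ C' : Conf (G ⧸ U), Concl C'.W) :
    Concl C.W := by
  haveI : Fact (Nat.Prime 2) := ⟨Nat.prime_two⟩
  set U := zpowers u with hU
  have hUZ : U ≤ center G := zpowers_le.2 huZ
  haveI hUn : U.Normal :=
    ⟨fun z hz g => by rw [mem_center_iff.1 (hUZ hz) g, mul_inv_cancel_right]; exact hz⟩
  have hUW : U ≤ C.W := zpowers_le.2 hu
  have hUcard : Nat.card U = 2 := by
    rw [Nat.card_zpowers]; exact orderOf_eq_prime (by rw [pow_two, C.sq u hu]) hu1
  set π := QuotientGroup.mk' U with hπ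
  have hcomapW : (C.W.map π).comap π = C.W :=
    comap_map_eq_self (by rw [hπ, QuotientGroup.ker_mk']; exact hUW)
  have hcomapT : ((C.T : Subgroup G).map π).comap π = (C.T : Subgroup G) :=
    comap_map_eq_self (by rw [hπ, QuotientGroup.ker_mk']; exact hUW.trans C.le_T)
  let C' : Conf (G ⧸ U) :=
    { T := C.T.mapSurjective (QuotientGroup.mk'_surjective U)
      W := C.W.map π
      le_T := Subgroup.map_mono C.le_T
      central := by
        rintro _ ⟨w, hw, rfl⟩ _ ⟨s, hs, rfl⟩
        rw [← map_mul, C.central w hw s hs, map_mul]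
      wc := fun gq hg => by
        obtain ⟨g, rfl⟩ := QuotientGroup.mk'_surjective U gq
        have key : g ∈ normalizer (C.W : Set G) := C.normalizes_of_maps fun w hw => by
          rw [← hcomapT]
          show π (g * w * g⁻¹) ∈ (C.T : Subgroup G).map π
          rw [map_mul, map_mul, map_inv]
          exact hg ⟨π w, ⟨w, hw, rfl⟩, rfl⟩
        exact mem_normalizer_iff_map.1 (le_normalizer_map π ⟨g, key, rfl⟩)
      sq := by
        rintro _ ⟨w, hw, rfl⟩
        rw [← map_mul, C.sq w hw, map_one]
      t := π C.t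
      t_mem := ⟨C.t, C.t_mem, rfl⟩
      t_notMem := fun h => C.t_notMem (hcomapW.le h)
      t_sq := by rw [← map_mul, C.t_sq, map_one]
      fac := by
        rintro _ ⟨w, hw, rfl⟩ gq hg
        obtain ⟨g, rfl⟩ := QuotientGroup.mk'_surjective U gq
        set x := w * C.t with hx
        rw [← map_mul] at hg ⊢
        have hv : (x * g)⁻¹ * (g * x) ∈ U := by
          rw [← QuotientGroup.ker_mk' U, MonoidHom.mem_ker, map_mul, map_inv, inv_mul_eq_one,
            map_mul, map_mul]
          exact (mem_centralizer_one.1 hg).symm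
        have hconj : ∀ k : G, ∀ v : G, (x * k)⁻¹ * (k * x) ∈ U → v * x = x * v →
            k * v * k⁻¹ * x = x * (k * v * k⁻¹) := by
          intro k v hk hvx
          set z := (x * k)⁻¹ * (k * x) with hz
          have hzc := fun a : G => mem_center_iff.1 (hUZ hk) a
          have e : k * x = x * k * z := by rw [hz]; group
          have e2 : k⁻¹ * x = x * k⁻¹ * z⁻¹ := by
            calc k⁻¹ * x = k⁻¹ * (x * k * z) * z⁻¹ * k⁻¹ := by group
              _ = k⁻¹ * (k * x) * z⁻¹ * k⁻¹ := by rw [e]
              _ = x * (z⁻¹ * k⁻¹) := by group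
              _ = x * (k⁻¹ * z⁻¹) := by rw [mem_center_iff.1 (inv_mem (hUZ hk)) k⁻¹]
              _ = _ := by group
          calc k * v * k⁻¹ * x = k * v * (k⁻¹ * x) := by group
            _ = k * (v * x) * (k⁻¹ * z⁻¹) := by rw [e2]; group
            _ = k * x * v * (k⁻¹ * z⁻¹) := by rw [hvx]; group
            _ = x * k * (z * v) * (k⁻¹ * z⁻¹) := by rw [e]; group
            _ = x * k * v * (z * k⁻¹) * z⁻¹ := by rw [← hzc v]; group
            _ = x * k * v * (k⁻¹ * z) * z⁻¹ := by rw [hzc k⁻¹]
            _ = _ := by group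
        have hgn : g ∈ normalizer (centralizer ({x} : Set G) : Set G) := by
          have h1 : (centralizer ({x} : Set G)).map (MulAut.conj g).toMonoidHom ≤
              centralizer ({x} : Set G) := by
            rintro _ ⟨v, hv', rfl⟩
            exact mem_centralizer_one.2 (hconj g v hv (mem_centralizer_one.1 hv'))
          exact mem_normalizer_iff_map.2
            (eq_of_le_of_card_ge h1 (card_map_of_injective (MulAut.conj g).injective).ge)
        have hWx : C.W ≤ centralizer ({x} : Set G) := fun v hv' =>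
          mem_centralizer_one.2 (by
            rw [hx, ← mul_assoc, C.comm hv' hw, mul_assoc, C.comm_t hv', mul_assoc])
        have hsub : conjMap g C.W ≤ cor x ⊔ C.W := by
          rintro _ ⟨v, hv', rfl⟩
          obtain ⟨o, ho, a, ha, e⟩ := C.exists_core_conj (C.fac w hw) (g := g) hv'
            (conj_mem_of_normalizer hgn (hWx hv'))
          show g * v * g⁻¹ ∈ _
          rw [e]
          exact mul_mem (mul_mem (mem_sup_left ho) (mem_sup_right ha)) (inv_mem (mem_sup_left ho))
        obtain ⟨d, hd, he⟩ := exists_conj_eq_of_coprime (N := cor x) (H := C.W) (K := conjMap g C.W)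
          (hWx.trans (le_normalizer_coreIn_self _)) (C.coprime_card (odd_coreIn _)).symm
          (Or.inr C.solvable) hsub (card_conjMap _ _)
        have hn : d⁻¹ * g ∈ normalizer (C.W : Set G) := by
          rw [mem_normalizer_iff_map]
          show conjMap (d⁻¹ * g) C.W = C.W
          rw [← conjMap_mul, he, conjMap_inv_conjMap]
        have hdC : π d ∈ centralizer ({π x} : Set (G ⧸ U)) := by
          rw [mem_centralizer_one, ← map_mul, ← map_mul, mem_centralizer_one.1 (coreIn_le _ hd)]
        refine ⟨π d, ?_, π (d⁻¹ * g), le_normalizer_map π ⟨_, hn, rfl⟩, ?_,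
          by rw [← map_mul, mul_inv_cancel_left]⟩
        · refine le_coreIn (M := (cor x).map π) ?_ ?_
            ((odd_coreIn (centralizer ({x} : Set G))).of_dvd_nat (card_map_dvd _ _)) ⟨d, hd, rfl⟩
          · rintro _ ⟨z, hz, rfl⟩
            rw [mem_centralizer_one, ← map_mul, ← map_mul, mem_centralizer_one.1 (coreIn_le _ hz)]
          · intro kq hk
            obtain ⟨k, rfl⟩ := QuotientGroup.mk'_surjective U kq
            refine le_normalizer_map π ⟨k, normalizer_le_coreIn _ (mem_normalizer_iff_map.2 ?_), rfl⟩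
            refine eq_of_le_of_card_ge ?_ (card_map_of_injective (MulAut.conj k).injective).ge
            rintro _ ⟨v, hv', rfl⟩
            refine mem_centralizer_one.2 (hconj k v ?_ (mem_centralizer_one.1 hv'))
            rw [← QuotientGroup.ker_mk' U, MonoidHom.mem_ker, map_mul, map_inv, inv_mul_eq_one,
              map_mul, map_mul]
            exact (mem_centralizer_one.1 hk).symm
        · rw [map_mul π d⁻¹ g, map_inv]
          exact mul_mem (inv_mem hdC) hg }
  intro g
  obtain ⟨oq, ho, hq, hh, e⟩ := ih U hUn (by intro hb; rw [hb, Subgroup.card_bot] at hUcard; omega) C' (π g)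
  obtain ⟨h, rfl⟩ := QuotientGroup.mk'_surjective U hq
  have hhW : h ∈ normalizer (C.W : Set G) := by
    refine C.normalizes_of_maps fun w hw => C.le_T ?_
    rw [← hcomapW]
    show π (h * w * h⁻¹) ∈ C.W.map π
    rw [map_mul, map_mul, map_inv]
    exact conj_mem_of_normalizer hh ⟨w, hw, rfl⟩
  set M := (Cfsg.pPrimeCore 2 (G ⧸ U)).comap π with hM
  have hUM : U ≤ M := fun z hz => by
    rw [hM, mem_comap, show π z = 1 from (QuotientGroup.eq_one_iff z).2 hz]; exact one_mem _
  have hm : g * h⁻¹ ∈ M := by
    rw [hM, mem_comap, map_mul, map_inv, e, mul_inv_cancel_right]; exact ho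
  haveI : (U.subgroupOf M).Normal := hUn.subgroupOf M
  have hindex : (U.subgroupOf M).index = Nat.card (Cfsg.pPrimeCore 2 (G ⧸ U)) := by
    have h1 : U.relIndex M = Nat.card (M.map π) := by
      have h := relIndex_ker M π
      rwa [hπ, QuotientGroup.ker_mk'] at h
    rw [show (U.subgroupOf M).index = U.relIndex M from rfl, h1, hM,
      map_comap_eq_self_of_surjective (QuotientGroup.mk'_surjective U)]
  have hcU : Nat.card (U.subgroupOf M) = 2 := by
    rw [Nat.card_congr (subgroupOfEquivOfLe hUM).toEquiv, hUcard]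
  obtain ⟨K, hK⟩ := Subgroup.exists_right_complement'_of_coprime (N := U.subgroupOf M)
    (by rw [hcU, hindex]; exact Nat.coprime_two_left.2 odd_pPrimeCore)
  have hKodd : Odd (Nat.card (K.map M.subtype)) := by
    rw [card_map_of_injective (subtype_injective M), ← hK.symm.index_eq_card, hindex]
    exact odd_pPrimeCore
  have hKn : M ≤ normalizer (K.map M.subtype : Set G) := by
    intro z hz
    obtain ⟨⟨v, k⟩, hvk, -⟩ := Subgroup.isComplement'_def.1 hK |>.existsUnique ⟨z, hz⟩
    have e' : ((v : M) : G) * ((k : M) : G) = z := congrArg Subtype.val hvk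
    rw [← e']
    refine mul_mem (centralizer_le_normalizer _ ?_) (le_normalizer ⟨_, k.2, rfl⟩)
    exact mem_centralizer_iff.2 fun a _ => mem_center_iff.1 (hUZ v.2) a
  have hKO : K.map M.subtype ≤ Cfsg.pPrimeCore 2 G := by
    haveI : M.Normal := by rw [hM]; infer_instance
    exact (le_coreIn (map_subtype_le K) hKn hKodd).trans coreIn_le_pPrimeCore
  obtain ⟨⟨v, k⟩, hvk, -⟩ := Subgroup.isComplement'_def.1 hK |>.existsUnique ⟨g * h⁻¹, hm⟩
  have e' : ((v : M) : G) * ((k : M) : G) = g * h⁻¹ := congrArg Subtype.val hvk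
  refine ⟨_, hKO ⟨_, k.2, rfl⟩, ((v : M) : G) * h,
    mul_mem (le_normalizer (hUW v.2)) hhW, ?_⟩
  have hc : ((k : M) : G) * ((v : M) : G) = ((v : M) : G) * ((k : M) : G) :=
    mem_center_iff.1 (hUZ v.2) _
  show g = ((k : M) : G) * (((v : M) : G) * h)
  rw [← mul_assoc, hc, e', inv_mul_cancel_right]

end Conf

theorem concl (n : ℕ) : ∀ (G : Type u) [Group G] [Finite G], Nat.card G ≤ n →
    ∀ C : Conf G, Concl C.W := by
  induction n with
  | zero => intro G _ _ h; exact absurd h (by have := Nat.card_pos (α := G); omega)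
  | succ n ih =>
    intro G _ _ hn C
    rcases lt_or_ge (Nat.card C.W) 4 with h | h
    · exact C.concl_small h
    by_cases hz : ∃ u ∈ C.W, u ≠ 1 ∧ u ∈ center G
    · obtain ⟨u, hu, hu1, huZ⟩ := hz
      refine C.concl_central hu hu1 huZ fun U _ hU C' => ih _ ?_ C'
      have h2 : 2 ≤ Nat.card U := Subgroup.one_lt_card_iff_ne_bot U |>.2 hU
      have h3 := Subgroup.card_eq_card_quotient_mul_card_subgroup U
      have h4 : 0 < Nat.card (G ⧸ U) := Nat.card_pos
      nlinarith
    · refine C.concl_of_fac h fun b hb hb1 => C.fac_of_centralizer hb fun C' => ih _ ?_ C'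
      have hlt : (centralizer ({b} : Set G)) ≠ ⊤ := fun htop => hz ⟨b, hb, hb1,
        mem_center_iff.2 fun g => mem_centralizer_one.1 (by rw [htop]; exact mem_top g)⟩
      have := Subgroup.card_mul_index (centralizer ({b} : Set G))
      have h2 : 1 < (centralizer ({b} : Set G)).index :=
        Subgroup.one_lt_index_of_ne_top hlt
      have h4 : 0 < Nat.card (centralizer ({b} : Set G)) := Nat.card_pos
      nlinarith

end Cfsg.Lib.CosetCore
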