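import Cfsg.Agent.CosetCore.Main

/-!
Reduction to the elementary abelian subgroup `Ω₁(W)`.
-/

set_option autoImplicit false
set_option linter.unusedSectionVars false

namespace Cfsg.Lib.CosetCore

open Subgroup Cfsg.Lib.Coprime

universe u

variable {G : Type u} [Group G] [Finite G]

theorem not_simple [IsSimpleGroup G] (T : Sylow 2 G) (W : Subgroup G) (hW1 : W ≠ ⊥)
    (hWZ : W ≤ (T : Subgroup G) ⊓ centralizer ((T : Subgroup G) : Set G))
    (hwc : Cfsg.IsWeaklyClosed W (T : Subgroup G)) (t : G) (ht : orderOf t = 2)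
    (htT : t ∈ (T : Subgroup G)) (htW : t ∉ W)
    (hcos : ∀ w ∈ W, orderOf (w * t) = 2 →
      W.subgroupOf (centralizer ({w * t} : Set G)) ≤
        Cfsg.pPrimePCore 2 ↥(centralizer ({w * t} : Set G))) : False := by
  haveI : Fact (Nat.Prime 2) := ⟨Nat.prime_two⟩
  have hWT : W ≤ (T : Subgroup G) := hWZ.trans inf_le_left
  have hcent : ∀ w ∈ W, ∀ s ∈ (T : Subgroup G), w * s = s * w := fun w hw s hs =>
    (mem_centralizer_iff.1 (hWZ hw).2 s hs).symm
  have hcomm : ∀ v ∈ W, ∀ w ∈ W, v * w = w * v := fun v hv w hw => hcent v hv w (hWT hw)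
  let W₀ : Subgroup G :=
    { carrier := {w | w ∈ W ∧ w * w = 1}
      one_mem' := ⟨one_mem _, one_mul 1⟩
      mul_mem' := fun {a b} ha hb => ⟨mul_mem ha.1 hb.1, by
        rw [show a * b * (a * b) = a * (b * a) * b by group, ← hcomm a ha.1 b hb.1,
          show a * (a * b) * b = a * a * (b * b) by group, ha.2, hb.2, one_mul]⟩
      inv_mem' := fun {a} ha => ⟨inv_mem ha.1, by rw [← mul_inv_rev, ha.2, inv_one]⟩ }
  have ht2 : t * t = 1 := by rw [← pow_two, ← ht, pow_orderOf_eq_one]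
  -- conjugates of elements of `W` in `T` lie in `W`
  have hstrong : ∀ u ∈ W, ∀ g : G, g * u * g⁻¹ ∈ (T : Subgroup G) → g * u * g⁻¹ ∈ W := by
    intro u hu g hg
    set a := g * u * g⁻¹ with ha
    have hTu : (T : Subgroup G) ≤ centralizer ({u} : Set G) := fun s hs =>
      mem_centralizer_one.2 (hcent u hu s hs).symm
    have hVu : W.map (MulAut.conj g⁻¹).toMonoidHom ≤ centralizer ({u} : Set G) := by
      rintro _ ⟨w, hw, rfl⟩
      rw [mem_centralizer_one]
      have e : w * a = a * w := hcent w hw a hg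
      simp only [MulEquiv.toMonoidHom_eq_coe, MonoidHom.coe_coe, MulAut.conj_apply, inv_inv]
      calc g⁻¹ * w * g * u = g⁻¹ * (w * a) * g := by rw [ha]; group
        _ = g⁻¹ * (a * w) * g := by rw [e]
        _ = u * (g⁻¹ * w * g) := by rw [ha]; group
    obtain ⟨c, hc, hcV⟩ := ZStarApps.exists_conj_mem_sylow T hTu ((T.2.to_le hWT).map _) hVu
    have hn : c * g⁻¹ ∈ normalizer (W : Set G) := by
      refine mem_normalizer_iff_map.2 (hwc.2 _ ?_)
      rintro _ ⟨w, hw, rfl⟩
      have := hcV _ ⟨w, hw, rfl⟩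
      simpa [mul_assoc] using this
    rw [mem_normalizer_iff.1 hn a]
    have : c * g⁻¹ * a * (c * g⁻¹)⁻¹ = c * u * c⁻¹ := by rw [ha]; group
    rw [this, mem_centralizer_one.1 hc, mul_inv_cancel_right]
    exact hu
  have hsq_conj : ∀ g w : G, w * w = 1 → g * w * g⁻¹ * (g * w * g⁻¹) = 1 := fun g w h => by
    rw [show g * w * g⁻¹ * (g * w * g⁻¹) = g * (w * w) * g⁻¹ by group, h, mul_one, mul_inv_cancel]
  have hNle : ∀ n ∈ normalizer (W : Set G), n ∈ normalizer (W₀ : Set G) := by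
    intro n hn
    refine mem_normalizer_iff_map.2 (eq_of_le_of_card_ge ?_
      (card_map_of_injective (MulAut.conj n).injective).ge)
    rintro _ ⟨w, hw, rfl⟩
    exact ⟨conj_mem_of_normalizer hn hw.1, hsq_conj n w hw.2⟩
  have hfac : ∀ w ∈ W₀, Fac W₀ (w * t) := by
    intro w hw g hg
    set x := w * t with hx
    have hx2 : x * x = 1 := by
      rw [hx, show w * t * (w * t) = w * (t * w) * t by group, ← hcent w hw.1 t htT,
        show w * (w * t) * t = w * w * (t * t) by group, hw.2, ht2, one_mul]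
    have hxo : orderOf x = 2 := orderOf_eq_prime (by rw [pow_two, hx2]) fun h =>
      htW (by rw [hx] at h; rw [← inv_eq_of_mul_eq_one_right h]; exact inv_mem hw.1)
    set C := centralizer ({x} : Set G) with hC
    set π := QuotientGroup.mk' (Cfsg.pPrimeCore 2 ↥C) with hπ
    have hWC : W ≤ C := fun v hv => mem_centralizer_one.2 (by
      rw [hx, ← mul_assoc, hcomm v hv w hw.1, mul_assoc, hcent v hv t htT, mul_assoc])
    set R := Cfsg.pPrimePCore 2 ↥C with hR
    have hWR : W.subgroupOf C ≤ R := hcos w hw.1 hxo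
    haveI hRn : R.Normal := by
      rw [hR, Cfsg.pPrimePCore]
      exact Subgroup.Normal.comap inferInstance _
    have hOR : Cfsg.pPrimeCore 2 ↥C ≤ R := by
      intro z hz
      show π z ∈ Cfsg.pCore 2 _
      rw [show π z = 1 from (QuotientGroup.eq_one_iff z).2 hz]
      exact one_mem _
    have hWp : IsPGroup 2 (W.subgroupOf C) :=
      (T.2.to_le hWT).of_equiv (subgroupOfEquivOfLe hWC).symm
    obtain ⟨S, hS⟩ := (hWp.of_equiv (subgroupOfEquivOfLe hWR).symm).exists_le_sylow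
    set gc : ↥C := ⟨g, hg⟩ with hgc
    have hgR : (W.subgroupOf C).map (MulAut.conj gc).toMonoidHom ≤ R := by
      rintro _ ⟨v, hv, rfl⟩
      exact hRn.conj_mem v (hWR hv) gc
    obtain ⟨r, hr⟩ : ∃ r : R, ∀ v : R, (v : ↥C) ∈ (W.subgroupOf C).map (MulAut.conj gc).toMonoidHom →
        r * v * r⁻¹ ∈ (S : Subgroup R) := by
      obtain ⟨r, -, hr⟩ := ZStarApps.exists_conj_mem_sylow S le_top
        ((hWp.map (MulAut.conj gc).toMonoidHom).comap_of_injective R.subtype (subtype_injective R))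
        le_top
      exact ⟨r, hr⟩
    have hSG : IsPGroup 2 (((S : Subgroup R).map R.subtype).map C.subtype) := (S.2.map _).map _
    obtain ⟨T', hT'⟩ := hSG.exists_le_sylow
    obtain ⟨z, hz⟩ := MulAction.exists_smul_eq G T' T
    have hzT : ∀ v : R, v ∈ (S : Subgroup R) → z * ((v : C) : G) * z⁻¹ ∈ (T : Subgroup G) := by
      intro v hv
      rw [← hz]
      exact Subgroup.smul_mem_pointwise_smul _ (MulAut.conj z) _ (hT' ⟨_, ⟨v, hv, rfl⟩, rfl⟩)
    have hzW : z ∈ normalizer (W : Set G) := by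
      refine mem_normalizer_iff_map.2 (hwc.2 _ ?_)
      rintro _ ⟨v, hv, rfl⟩
      have hvC : (⟨v, hWC hv⟩ : C) ∈ W.subgroupOf C := hv
      exact hzT ⟨⟨v, hWC hv⟩, hWR hvC⟩ (hS hvC)
    have hrg : ((r : C) : G) * g ∈ normalizer (W : Set G) := by
      have h1 : z * (((r : C) : G) * g) ∈ normalizer (W : Set G) := by
        refine mem_normalizer_iff_map.2 (hwc.2 _ ?_)
        rintro _ ⟨v, hv, rfl⟩
        have hvC : (⟨v, hWC hv⟩ : C) ∈ W.subgroupOf C := hv
        have h2 := hzT _ (hr ⟨gc * ⟨v, hWC hv⟩ * gc⁻¹, hgR ⟨_, hvC, rfl⟩⟩ ⟨_, hvC, rfl⟩)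
        simpa [hgc, mul_assoc] using h2
      simpa using mul_mem (inv_mem hzW) h1
    have hRsup : (Cfsg.pPrimeCore 2 ↥C).subgroupOf R ⊔ (S : Subgroup R) = ⊤ := by
      rw [← index_eq_one]
      refine Nat.eq_one_of_dvd_coprimes (k := _) ?_ (index_dvd_of_le le_sup_left)
        (index_dvd_of_le le_sup_right)
      have h2 : ∀ z : ↥(R.map π), ∃ k : ℕ, z ^ 2 ^ k = 1 := by
        have : R.map π ≤ Cfsg.pCore 2 (↥C ⧸ Cfsg.pPrimeCore 2 ↥C) := map_comap_le _ _
        exact (Cfsg.Lib.Components.isPGroup_pCore 2).to_le this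
      obtain ⟨k, hk⟩ := IsPGroup.iff_card.1 (h2 : IsPGroup 2 ↥(R.map π))
      have h3 := relIndex_ker R π
      rw [hπ, QuotientGroup.ker_mk'] at h3
      rw [show ((Cfsg.pPrimeCore 2 ↥C).subgroupOf R).index = (Cfsg.pPrimeCore 2 ↥C).relIndex R from rfl,
        h3, hk]
      exact (Nat.prime_two.coprime_iff_not_dvd.2 S.not_dvd_index).pow_left k
    obtain ⟨o, ho, s, hs, he⟩ := (mem_sup_of_le_normalizer (by rw [normalizer_eq_top]; exact le_top)).mp
      (show r⁻¹ ∈ (Cfsg.pPrimeCore 2 ↥C).subgroupOf R ⊔ (S : Subgroup R) by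
        rw [hRsup]; exact mem_top _)
    have hsW : ((s : C) : G) ∈ normalizer (W : Set G) := by
      refine centralizer_le_normalizer _ (mem_centralizer_iff.2 fun v hv => ?_)
      have hvC : (⟨v, hWC hv⟩ : C) ∈ W.subgroupOf C := hv
      have h1 := hcent _ (conj_mem_of_normalizer hzW hv) _ (hzT s hs)
      have e : z * (v * ((s : C) : G)) * z⁻¹ = z * (((s : C) : G) * v) * z⁻¹ := by
        calc z * (v * ((s : C) : G)) * z⁻¹ = z * v * z⁻¹ * (z * ((s : C) : G) * z⁻¹) := by group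
          _ = z * ((s : C) : G) * z⁻¹ * (z * v * z⁻¹) := h1
          _ = _ := by group
      exact mul_left_cancel (mul_right_cancel e)
    have he' : ((r : C) : G)⁻¹ = ((o : C) : G) * ((s : C) : G) := by
      have := congrArg (fun q : R => ((q : C) : G)) he
      simpa using this.symm
    refine ⟨((o : C) : G), ⟨_, ho, rfl⟩, ((s : C) : G) * (((r : C) : G) * g),
      hNle _ (mul_mem hsW hrg), mul_mem (s : C).2 (mul_mem (r : C).2 hg), ?_⟩
    rw [← mul_assoc, ← he', inv_mul_cancel_left]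
  let C₀ : Conf G :=
    { T := T
      W := W₀
      le_T := fun w hw => hWT hw.1
      central := fun w hw => hcent w hw.1
      wc := fun g hg => eq_of_le_of_card_ge (by
          rintro _ ⟨w, hw, rfl⟩
          exact ⟨hstrong w hw.1 g (hg ⟨w, hw, rfl⟩), hsq_conj g w hw.2⟩)
        (card_map_of_injective (MulAut.conj g).injective).ge
      sq := fun w hw => hw.2
      t := t
      t_mem := htT
      t_notMem := fun h => htW h.1
      t_sq := ht2
      fac := hfac }
  have hc : Concl W₀ := concl (Nat.card G) G le_rfl C₀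
  have hO : Cfsg.pPrimeCore 2 G = ⊥ := by
    rcases Subgroup.Normal.eq_bot_or_eq_top (H := Cfsg.pPrimeCore 2 G) inferInstance with h | h
    · exact h
    · have := (odd_pPrimeCore (G := G))
      rw [h, card_top] at this
      exact absurd (ht ▸ orderOf_dvd_natCard t) this.not_two_dvd_nat
  have hn : W₀.Normal := by
    rw [← normalizer_eq_top_iff, eq_top_iff]
    intro g _
    obtain ⟨o, ho, h, hh, rfl⟩ := hc g
    rw [hO, mem_bot] at ho
    rw [ho, one_mul]; exact hh
  rcases hn.eq_bot_or_eq_top with h | h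
  · obtain ⟨u, hu, hu1⟩ := (Subgroup.bot_or_exists_ne_one W).resolve_left hW1
    obtain ⟨k, hk⟩ := IsPGroup.iff_card.1 (T.2.to_le hWT)
    have hk0 : k ≠ 0 := fun hk0 => hW1 (Subgroup.card_eq_one.1 (by rw [hk, hk0, pow_zero]))
    obtain ⟨v, hv⟩ := exists_prime_orderOf_dvd_card' (G := W) 2 (by rw [hk]; exact dvd_pow_self 2 hk0)
    have hv2 : (v : G) * v = 1 := by
      rw [← Subgroup.coe_mul, ← pow_two, ← hv, pow_orderOf_eq_one, OneMemClass.coe_one]
    have : (v : G) = 1 := (Subgroup.mem_bot).1 (h ▸ (⟨v.2, hv2⟩ : (v : G) ∈ W₀))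
    rw [show v = 1 from Subtype.ext this, orderOf_one] at hv
    exact absurd hv (by norm_num)
  · exact htW ((h ▸ mem_top t : t ∈ W₀)).1

end Cfsg.Lib.CosetCore
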